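import Cfsg.Agent.KFacts.En.Roots
import Cfsg.Agent.KFacts.Mult.LacedEnd
import Cfsg.Agent.KFacts.Mult.RGDW
import Cfsg.Agent.OddHalf.SL.OfRGD
import Cfsg.Agent.KFacts.OddLift.Frat
import Cfsg.Agent.S1082

-- merged: Cfsg.Agent.KFacts.En.Rel
section

/-!
Root elements of the groups D₄(q), E₆(q), E₇(q), E₈(q), `q` even, over the root vectors.

* `xe h x t` : the root element; `xe_conj` : conjugation with `n_i`;
* `commute_xe`, `comm_xe` : the commutator relations `[x_a(t), x_b(u)] = 1` for `(a, b) ≥ 0`, `= x_{a+b}(tu)` for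
  `(a, b) = -1`;
* `exists_torus` : torus elements `h_x(c)`; `exists_chi` : the character of a torus element;
* `ne h d c` : the element `n_d(c)`, `ne_conj_neg`, `ne_conj_pos` : its action, `exists_swap`.
-/

set_option autoImplicit false
set_option linter.unusedSectionVars false

namespace Cfsg.Agent.KFacts.En.Rel

open Cfsg.Lie Cfsg.Agent.ChevalleyStructure Cfsg.Agent.ChevalleyStructure.Elts
  Cfsg.Agent.ChevalleyStructure.NConj Cfsg.Agent.ChevalleyStructure.BNChev
  Cfsg.Agent.ChevalleyStructure.RootVec Cfsg.Agent.ChevalleyStructure.RootVecTab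
  Cfsg.Agent.ChevalleyStructure.CoxeterGeom Cfsg.Agent.ChevalleyStructure.CoxeterGeomTypes
  Cfsg.Agent.Nodes.RGDChev Cfsg.Agent.Tits.Roots Cfsg.Agent.Tits.Core Cfsg.Agent.KFacts.En.Tab
  Cfsg.Agent.KFacts.En.Roots
open scoped commutatorElement

universe u

variable {D : ChevalleyDatum} {l : ℕ} {M : CoxeterMatrix (Fin l)} {F : Type u} [Field F]

/-- the root element `x_x(t)` -/
noncomputable def xe (h : Ty D l M) (x : Fin l → ℤ) (t : F) : GL D.Idx F :=
  open Classical in if hx : x ∈ Phi D l then xG h.ty.inList hx.choose t else 1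

theorem xe_vec (h : Ty D l M) {r : ℕ} (hr : r < D.nroots) (t : F) :
    xe h (vec D l r) t = xG h.ty.inList r t := by
  have hx : vec D l r ∈ Phi D l := vec_mem hr
  unfold xe
  rw [dif_pos hx]
  congr 1
  exact vec_inj h.ty hx.choose_spec.1 hr hx.choose_spec.2

theorem xe_add (h : Ty D l M) (x : Fin l → ℤ) (t u : F) : xe h x t * xe h x u = xe h x (t + u) := by
  unfold xe
  split_ifs
  · exact xG_add _ _ _ _
  · rw [one_mul]

theorem xe_zero (h : Ty D l M) (x : Fin l → ℤ) : xe h x (0 : F) = 1 := by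
  unfold xe
  split_ifs
  · exact xG_zero _ _
  · rfl

theorem xe_mem_group (h : Ty D l M) (x : Fin l → ℤ) (t : F) : xe h x t ∈ D.group F := by
  unfold xe
  split_ifs
  · exact xG_mem_group _ _ _
  · exact one_mem _

theorem mem_XV (h : Ty D l M) {x : Fin l → ℤ} (hx : x ∈ Phi D l) (g : GL D.Idx F) :
    g ∈ XV D l F x ↔ ∃ t : F, g = xe h x t := by
  obtain ⟨r, hr, rfl⟩ := hx
  rw [XV_vec h.ty F hr, mem_rootSubgroup_iff h.ty.inList]
  constructor
  · rintro ⟨t, rfl⟩
    exact ⟨t, (xe_vec h hr t).symm⟩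
  · rintro ⟨t, rfl⟩
    exact ⟨t, xe_vec h hr t⟩

theorem xe_mem_XV (h : Ty D l M) {x : Fin l → ℤ} (hx : x ∈ Phi D l) (t : F) : xe h x t ∈ XV D l F x :=
  (mem_XV h hx _).2 ⟨t, rfl⟩

theorem xe_eq_one_iff (h : Ty D l M) {x : Fin l → ℤ} (hx : x ∈ Phi D l) (t : F) : xe h x t = 1 ↔ t = 0 := by
  obtain ⟨r, hr, rfl⟩ := hx
  rw [xe_vec h hr]
  exact xG_eq_one_iff h.ty.inList hr t

theorem xe_inj (h : Ty D l M) {x : Fin l → ℤ} (hx : x ∈ Phi D l) {t u : F} (e : xe h x t = xe h x u) : t = u := by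
  have h1 : xe h x (t + -u) = 1 := by
    rw [← xe_add, e, xe_add, add_neg_cancel, xe_zero]
  have h2 := (xe_eq_one_iff h hx _).1 h1
  rw [← sub_eq_add_neg, sub_eq_zero] at h2
  exact h2

section CharTwo

variable [CharP F 2]

theorem xe_sq (h : Ty D l M) (x : Fin l → ℤ) (t : F) : xe h x t * xe h x t = 1 := by
  rw [xe_add, CharTwo.add_self_eq_zero, xe_zero]

theorem xe_inv (h : Ty D l M) (x : Fin l → ℤ) (t : F) : (xe h x t)⁻¹ = xe h x t :=
  inv_eq_of_mul_eq_one_left (xe_sq h x t)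

theorem sign_eq_one {η : F} (hη : η = 1 ∨ η = -1) : η = 1 := by
  rcases hη with h | h
  · exact h
  · rw [h, CharTwo.neg_eq]

/-- `n_i x_x(t) n_i⁻¹ = x_{w_i x}(t)` -/
theorem xe_conj (h : Ty D l M) (i : Fin l) {x : Fin l → ℤ} (hx : x ∈ Phi D l) (t : F) :
    nn h.ty F i * xe h x t * (nn h.ty F i)⁻¹ = xe h (rf D l i x) t := by
  obtain ⟨r, hr, rfl⟩ := hx
  obtain ⟨η, hη, h1, -⟩ := conj_x (F := F) h.ty.inList (lt_rank h.ty i) hr
  have h2 := h1 t
  rw [sign_eq_one hη, one_mul] at h2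
  rw [xe_vec h hr, rf_vec h.ty i hr, xe_vec h (reflectRoot_rt h.ty.checked (lt_rank h.ty i) hr).1]
  exact h2

theorem xe_conj' (h : Ty D l M) (i : Fin l) {x : Fin l → ℤ} (hx : x ∈ Phi D l) (t : F) :
    (nn h.ty F i)⁻¹ * xe h x t * nn h.ty F i = xe h (rf D l i x) t := by
  have h1 := xe_conj (F := F) h i (rf_mem h.ty i hx) t
  rw [rf_rf h] at h1
  rw [← h1]
  group

end CharTwo

/-- `vec` of the terms of the commutator formula -/
theorem commTerms_vec (h : Ty D l M) {r s v i j : ℕ} {C : ℤ} (hv : (v, C, i, j) ∈ D.commTerms r s) :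
    v < D.nroots ∧ 1 ≤ i ∧ 1 ≤ j ∧ vec D l v = (i : ℤ) • vec D l r + (j : ℤ) • vec D l s := by
  obtain ⟨h1, -, -, hi, hj, hvec⟩ := commTerms_rt h.ty.checked hv
  refine ⟨h1, hi, hj, ?_⟩
  funext k
  rw [vec_apply, hvec, Pi.add_apply, Pi.smul_apply, Pi.smul_apply, smul_eq_mul, smul_eq_mul, vec_apply, vec_apply]

theorem commTerms_nil (h : Ty D l M) {r s : ℕ} (hr : r < D.nroots) (hs : s < D.nroots)
    (h0 : 0 ≤ bf D l (vec D l r) (vec D l s)) : D.commTerms r s = [] := by
  rw [List.eq_nil_iff_forall_not_mem]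
  rintro ⟨v, C, i, j⟩ hv
  obtain ⟨h1, hi, hj, e⟩ := commTerms_vec h hv
  have h2 := bf_self h (vec_mem (l := l) h1)
  rw [e, bf_add_left, bf_add_right, bf_add_right, bf_smul_left, bf_smul_left, bf_smul_right, bf_smul_right,
    bf_smul_left, bf_smul_right, bf_smul_left, bf_smul_right, bf_self h (vec_mem hr), bf_self h (vec_mem hs),
    bf_symm h (vec D l s) (vec D l r)] at h2
  have hi' : (1 : ℤ) ≤ i := by exact_mod_cast hi
  have hj' : (1 : ℤ) ≤ j := by exact_mod_cast hj
  have h3 : 0 ≤ (i : ℤ) * ((j : ℤ) * bf D l (vec D l r) (vec D l s)) := by positivity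
  nlinarith

/-- `[x_a(t), x_b(u)] = 1` for `(a, b) ≥ 0` -/
theorem commute_xe (h : Ty D l M) {x y : Fin l → ℤ} (hx : x ∈ Phi D l) (hy : y ∈ Phi D l) (h0 : 0 ≤ bf D l x y)
    (t u : F) : xe h x t * xe h y u = xe h y u * xe h x t := by
  obtain ⟨r, hr, rfl⟩ := hx
  obtain ⟨s, hs, rfl⟩ := hy
  by_cases hrs : s = r
  · subst hrs
    rw [xe_add, xe_add, add_comm]
  have hneg : s ≠ D.neg r := by
    rintro rfl
    rw [vec_neg h.ty hr, bf_neg_right, bf_self h (vec_mem hr)] at h0
    norm_num at h0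
  rw [xe_vec h hr, xe_vec h hs]
  have h1 := comm_xG h.ty (K := F) hr hs hrs hneg (-t) (-u)
  have h2 : D.commWord F r s (-t) (-u) = [] := by
    unfold ChevalleyDatum.commWord
    rw [commTerms_nil h hr hs h0, List.map_nil]
  rw [h2, xG_inv, xG_inv, _root_.neg_neg, _root_.neg_neg] at h1
  have h3 : wordG h.ty.inList ([] : List (ℕ × F)) = 1 := rfl
  rw [h3, commutatorElement_eq_one_iff_mul_comm] at h1
  exact h1.symm

section CharTwo

variable [CharP F 2]

/-- `[x_a(t), x_b(u)] = x_{a+b}(tu)` for `(a, b) = -1` -/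
theorem comm_xe (h : Ty D l M) {x y : Fin l → ℤ} (hx : x ∈ Phi D l) (hy : y ∈ Phi D l) (h0 : bf D l x y = -1)
    (t u : F) : ⁅xe h x t, xe h y u⁆ = xe h (x + y) (t * u) := by
  refine induct h.ty (fun x => ∀ y ∈ Phi D l, bf D l x y = -1 → ⁅xe h x t, xe h y u⁆ = xe h (x + y) (t * u))
    ?_ ?_ x hx y hy h0
  clear h0 hy hx
  · rintro i y ⟨s, hs, rfl⟩ h0
    have hr := simple_lt h.ty.checked (lt_rank h.ty i)
    have h0' := h0
    rw [bf_sr_left, pairing_vec h.ty i hs] at h0'
    obtain ⟨v, c, e1, hc⟩ := h.sl.coef h.ty.checked (lt_rank h.ty i) hs h0'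
    obtain ⟨hv, -, -, e2⟩ := commTerms_vec h (l := l) (show (v, c, 1, 1) ∈ D.commTerms (D.simple i) s by
      rw [e1]; exact List.mem_cons_self)
    rw [Nat.cast_one, one_smul, one_smul, vec_simple h.ty i] at e2
    have hne : s ≠ D.simple i := by
      rintro rfl
      rw [vec_simple h.ty i, bf_sr_self h] at h0
      norm_num at h0
    have hneg : s ≠ D.neg (D.simple i) := by
      rintro rfl
      rw [vec_neg h.ty hr, vec_simple h.ty i, bf_neg_right, bf_sr_self h] at h0
      norm_num at h0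
    have h1 := comm_xG h.ty (K := F) hr hs hne hneg t u
    have h2 : wordG h.ty.inList (D.commWord F (D.simple i) s t u) = xG h.ty.inList v (t * u) := by
      unfold ChevalleyDatum.commWord
      rw [e1]
      show xG h.ty.inList v ((c : F) * (-t) ^ 1 * u ^ 1) * 1 = _
      rw [mul_one, pow_one, pow_one]
      have hc' : (c : F) = 1 := by
        apply sign_eq_one
        rcases hc with rfl | rfl
        · left; norm_num
        · right; norm_num
      rw [hc', one_mul, CharTwo.neg_eq]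
    have hni : ∀ (z : ℕ) (a : F), (xG h.ty.inList z a)⁻¹ = xG h.ty.inList z a := fun z a => by
      rw [xG_inv, CharTwo.neg_eq]
    rw [h2, hni, hni] at h1
    have e3 : xe h (sr i) t = xG h.ty.inList (D.simple i) t := by rw [← vec_simple h.ty i, xe_vec h hr]
    rw [e3, xe_vec h hs, ← e2, xe_vec h hv, ← hni v (t * u), ← h1, commutatorElement_inv]
  · intro i x hx ih y hy h1
    have h2 := ih (rf D l i y) (rf_mem h.ty i hy) (by rw [← bf_rf h i, rf_rf h]; exact h1)
    rw [← xe_conj h i hx]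
    have h3 : xe h y u = nn h.ty F i * xe h (rf D l i y) u * (nn h.ty F i)⁻¹ := by
      rw [xe_conj h i (rf_mem h.ty i hy), rf_rf h]
    have h4 : rf D l i x + y = rf D l i (x + rf D l i y) := by
      have h5 : rf D l i (x + rf D l i y) = rf D l i x + rf D l i (rf D l i y) := by
        unfold rf
        rw [pairing_add, add_smul]
        abel
      rw [h5, rf_rf h]
    rw [h3, h4, ← xe_conj h i (add_mem h hx (rf_mem h.ty i hy) (by rw [← bf_rf h i, rf_rf h]; exact h1)), ← h2]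
    rw [commutatorElement_def, commutatorElement_def]
    group

/-- conjugation form: `x_a(t) x_b(u) x_a(t)⁻¹ = x_{a+b}(tu) x_b(u)` -/
theorem xe_conj_xe (h : Ty D l M) {x y : Fin l → ℤ} (hx : x ∈ Phi D l) (hy : y ∈ Phi D l) (h0 : bf D l x y = -1)
    (t u : F) : xe h x t * xe h y u * (xe h x t)⁻¹ = xe h (x + y) (t * u) * xe h y u := by
  rw [← comm_xe h hx hy h0, commutatorElement_def]
  group

/-- the action of `h_r(c)` -/
theorem hG_conj (h : Ty D l M) {r : ℕ} (hr : r < D.nroots) {c : F} (hc : c ≠ 0) {y : Fin l → ℤ} (hy : y ∈ Phi D l)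
    (t : F) : hG h.ty.inList r c * xe h y t * (hG h.ty.inList r c)⁻¹ = xe h y (c ^ bf D l (vec D l r) y * t) := by
  refine Reach.reach h.ty.inList (fun r => ∀ y ∈ Phi D l, hG h.ty.inList r c * xe h y t * (hG h.ty.inList r c)⁻¹ =
    xe h y (c ^ bf D l (vec D l r) y * t)) ?_ ?_ r hr y hy
  · rintro i hi y ⟨s, hs, rfl⟩
    have hi' : i < l := by rw [← h.ty.rank_eq]; exact hi
    have h0 := vec_simple h.ty ⟨i, hi'⟩
    have h1 := Cfsg.Agent.S1032.result (F := F) D h.ty.inList i s hi hs c hc t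
    have h2 : bf D l (vec D l (D.simple i)) (vec D l s) = D.cartan i s := by
      rw [show vec D l (D.simple i) = sr (⟨i, hi'⟩ : Fin l) from h0, bf_sr_left, pairing_vec h.ty ⟨i, hi'⟩ hs]
    rw [xe_vec h hs, xe_vec h hs, h2, mul_inv_eq_iff_eq_mul]
    refine Units.ext ?_
    rw [Units.val_mul, Units.val_mul, coe_hG, coe_xG, coe_xG]
    exact h1
  · intro i hi s hs ih y hy
    have hi' : i < l := by rw [← h.ty.rank_eq]; exact hi
    obtain ⟨η, hη, h1⟩ := conj_h (F := F) h.ty.inList hi hs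
    have h2 := h1 c
    rw [sign_eq_one hη, one_mul, hG_one, inv_one, mul_one] at h2
    have h2' : nn h.ty F ⟨i, hi'⟩ * hG h.ty.inList s c * (nn h.ty F ⟨i, hi'⟩)⁻¹ =
      hG h.ty.inList (D.reflectRoot i s) c := h2
    have h3 := ih (rf D l ⟨i, hi'⟩ y) (rf_mem h.ty ⟨i, hi'⟩ hy)
    have h4 : ∀ a : F, xe h y a = nn h.ty F ⟨i, hi'⟩ * xe h (rf D l ⟨i, hi'⟩ y) a * (nn h.ty F ⟨i, hi'⟩)⁻¹ := fun a => by
      rw [xe_conj h ⟨i, hi'⟩ (rf_mem h.ty ⟨i, hi'⟩ hy), rf_rf h]
    have h5 : bf D l (vec D l (D.reflectRoot i s)) y = bf D l (vec D l s) (rf D l ⟨i, hi'⟩ y) := by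
      rw [← bf_rf h ⟨i, hi'⟩ (vec D l s), rf_rf h, rf_vec h.ty ⟨i, hi'⟩ hs]
    rw [← h2', h4 t, h4, h5, ← h3]
    group

/-- the torus element `h_x(c)` -/
theorem exists_torus (h : Ty D l M) {x : Fin l → ℤ} (hx : x ∈ Phi D l) {c : F} (hc : c ≠ 0) :
    ∃ k ∈ D.diagonalSubgroup F, ∀ y ∈ Phi D l, ∀ t : F, k * xe h y t * k⁻¹ = xe h y (c ^ bf D l x y * t) := by
  obtain ⟨r, hr, rfl⟩ := hx
  exact ⟨hG h.ty.inList r c, hG_mem_diagonal h.ty.inList hr hc, fun y hy t => hG_conj h hr hc hy t⟩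

/-- the character of an element of the torus -/
theorem exists_chi (h : Ty D l M) {k : GL D.Idx F} (hk : k ∈ D.diagonalSubgroup F) :
    ∃ χ : (Fin l → ℤ) → F, (∀ x, χ x ≠ 0) ∧ (∀ x y, χ (x + y) = χ x * χ y) ∧
      ∀ y ∈ Phi D l, ∀ t : F, k * xe h y t * k⁻¹ = xe h y (χ y * t) := by
  let S : Subgroup (GL D.Idx F) :=
    { carrier := {k | ∃ χ : (Fin l → ℤ) → F, (∀ x, χ x ≠ 0) ∧ (∀ x y, χ (x + y) = χ x * χ y) ∧
        ∀ y ∈ Phi D l, ∀ t : F, k * xe h y t * k⁻¹ = xe h y (χ y * t)}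
      mul_mem' := by
        rintro a b ⟨χ, h1, h2, h3⟩ ⟨ψ, k1, k2, k3⟩
        refine ⟨fun x => χ x * ψ x, fun x => mul_ne_zero (h1 x) (k1 x), fun x y => ?_, fun y hy t => ?_⟩
        · show χ (x + y) * ψ (x + y) = χ x * ψ x * (χ y * ψ y)
          rw [h2, k2]; ring
        · have e : a * b * xe h y t * (a * b)⁻¹ = a * (b * xe h y t * b⁻¹) * a⁻¹ := by group
          rw [e, k3 y hy, h3 y hy, mul_assoc]
      one_mem' := ⟨fun _ => 1, fun _ => one_ne_zero, fun _ _ => (mul_one _).symm, fun y _ t => by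
        rw [one_mul, inv_one, mul_one, one_mul]⟩
      inv_mem' := by
        rintro a ⟨χ, h1, h2, h3⟩
        refine ⟨fun x => (χ x)⁻¹, fun x => inv_ne_zero (h1 x), fun x y => ?_, fun y hy t => ?_⟩
        · show (χ (x + y))⁻¹ = (χ x)⁻¹ * (χ y)⁻¹
          rw [h2, mul_inv]
        · have e := h3 y hy ((χ y)⁻¹ * t)
          rw [mul_inv_cancel_left₀ (h1 y)] at e
          show a⁻¹ * xe h y t * a⁻¹⁻¹ = xe h y ((χ y)⁻¹ * t)
          rw [← e]
          group }
  have hle : D.diagonalSubgroup F ≤ S := by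
    rw [diagonal_le_iff h.ty.inList]
    intro r hr t ht
    exact ⟨fun y => t ^ bf D l (vec D l r) y, fun y => zpow_ne_zero _ ht, fun x y => by
      show t ^ bf D l (vec D l r) (x + y) = _
      rw [bf_add_right, zpow_add₀ ht], fun y hy a => hG_conj h hr ht hy a⟩
  exact hle hk

/-- the element `n_d(c)` -/
noncomputable def ne (h : Ty D l M) (d : Fin l → ℤ) (c : F) : GL D.Idx F := xe h d c * xe h (-d) c⁻¹ * xe h d c

/-- the action of `n_d(c)` on a root at `120°` -/
theorem ne_conj_neg (h : Ty D l M) {d y : Fin l → ℤ} (hd : d ∈ Phi D l) (hy : y ∈ Phi D l) (h0 : bf D l d y = -1)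
    {c : F} (hc : c ≠ 0) (t : F) : ne h d c * xe h y t * (ne h d c)⁻¹ = xe h (d + y) (c * t) := by
  have hnd := neg_mem h.ty hd
  have hdy := add_mem h hd hy h0
  have e1 := xe_conj_xe h hd hy h0 c t
  have e2 := xe_conj_xe h hnd hdy (by rw [bf_neg_left, bf_add_right, bf_self h hd, h0]; norm_num) c⁻¹ (c * t)
  rw [neg_add_cancel_left, inv_mul_cancel_left₀ hc] at e2
  have e3 := commute_xe h hnd hy (by rw [bf_neg_left, h0]; norm_num) c⁻¹ t
  have e4 := commute_xe h hd hdy (by rw [bf_add_right, bf_self h hd, h0]; norm_num) c (c * t)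
  have e5 := commute_xe h hdy hy (by rw [bf_add_left, bf_self h hy, h0]; norm_num) (c * t) t
  calc ne h d c * xe h y t * (ne h d c)⁻¹
      = xe h d c * (xe h (-d) c⁻¹ * (xe h d c * xe h y t * (xe h d c)⁻¹) * (xe h (-d) c⁻¹)⁻¹) * (xe h d c)⁻¹ := by
        unfold ne; group
    _ = xe h d c * ((xe h (-d) c⁻¹ * xe h (d + y) (c * t) * (xe h (-d) c⁻¹)⁻¹) *
          (xe h (-d) c⁻¹ * xe h y t * (xe h (-d) c⁻¹)⁻¹)) * (xe h d c)⁻¹ := by rw [e1]; group
    _ = xe h d c * ((xe h y t * xe h (d + y) (c * t)) * xe h y t) * (xe h d c)⁻¹ := by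
        rw [e2, e3, mul_inv_cancel_right]
    _ = xe h d c * xe h (d + y) (c * t) * (xe h d c)⁻¹ := by
        rw [mul_assoc (xe h y t), e5, ← mul_assoc (xe h y t), xe_sq, one_mul]
    _ = xe h (d + y) (c * t) := by rw [e4, mul_inv_cancel_right]

/-- the action of `n_d(c)` on a root at `60°` -/
theorem ne_conj_pos (h : Ty D l M) {d y : Fin l → ℤ} (hd : d ∈ Phi D l) (hy : y ∈ Phi D l) (h0 : bf D l d y = 1)
    {c : F} (hc : c ≠ 0) (t : F) : ne h d c * xe h y t * (ne h d c)⁻¹ = xe h (y - d) (c⁻¹ * t) := by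
  have hnd := neg_mem h.ty hd
  have hdy : y - d ∈ Phi D l := sub_mem h hy hd (by rw [bf_symm h]; exact h0)
  have e1 := commute_xe h hd hy (by rw [h0]; norm_num) c t
  have e2 := xe_conj_xe h hnd hy (by rw [bf_neg_left, h0]) c⁻¹ t
  have e0 : -d + y = y - d := by abel
  rw [e0] at e2
  have e3 := xe_conj_xe h hd hdy (by rw [bf_sub_right, bf_self h hd, h0]; norm_num) c (c⁻¹ * t)
  rw [add_sub_cancel, mul_inv_cancel_left₀ hc] at e3
  have e4 := commute_xe h hdy hy (by rw [bf_sub_left, bf_self h hy, h0]; norm_num) (c⁻¹ * t) t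
  calc ne h d c * xe h y t * (ne h d c)⁻¹
      = xe h d c * (xe h (-d) c⁻¹ * (xe h d c * xe h y t * (xe h d c)⁻¹) * (xe h (-d) c⁻¹)⁻¹) * (xe h d c)⁻¹ := by
        unfold ne; group
    _ = xe h d c * (xe h (-d) c⁻¹ * xe h y t * (xe h (-d) c⁻¹)⁻¹) * (xe h d c)⁻¹ := by
        rw [e1, mul_inv_cancel_right]
    _ = (xe h d c * xe h (y - d) (c⁻¹ * t) * (xe h d c)⁻¹) * (xe h d c * xe h y t * (xe h d c)⁻¹) := by
        rw [e2]; group
    _ = xe h y t * xe h (y - d) (c⁻¹ * t) * xe h y t := by rw [e3, e1, mul_inv_cancel_right]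
    _ = xe h (y - d) (c⁻¹ * t) := by rw [mul_assoc, e4, ← mul_assoc, xe_sq, one_mul]

/-- the swap of two root elements at `60°` -/
theorem exists_swap (h : Ty D l M) {x y : Fin l → ℤ} (hx : x ∈ Phi D l) (hy : y ∈ Phi D l) (h0 : bf D l x y = 1)
    {t u : F} (ht : t ≠ 0) (hu : u ≠ 0) : ∃ c : F, c ≠ 0 ∧
      ne h (x - y) c * xe h y u * (ne h (x - y) c)⁻¹ = xe h x t ∧
      ne h (x - y) c * xe h x t * (ne h (x - y) c)⁻¹ = xe h y u := by
  have hd := sub_mem h hx hy h0
  refine ⟨t * u⁻¹, mul_ne_zero ht (inv_ne_zero hu), ?_, ?_⟩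
  · rw [ne_conj_neg h hd hy (by rw [bf_sub_left, h0, bf_self h hy]; norm_num)
      (mul_ne_zero ht (inv_ne_zero hu)), sub_add_cancel, mul_assoc, inv_mul_cancel₀ hu, mul_one]
  · rw [ne_conj_pos h hd hx (by rw [bf_sub_left, bf_self h hx, bf_symm h, h0]; norm_num)
      (mul_ne_zero ht (inv_ne_zero hu)), sub_sub_cancel]
    congr 1
    field_simp

end CharTwo

end Cfsg.Agent.KFacts.En.Rel

end

-- merged: Cfsg.Agent.KFacts.OddLift.ChevSys
section

/-!
# The simply laced Chevalley groups `D.group F` (D₄, E₆, E₇, E₈), `F` of characteristic 2, as a `Laced.Sys`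

`xs h F r a : D.group F`, `X D l F r : Subgroup (D.group F)`; `sys`, `three`, `isRG`, `inj`, `dir`, `odd`: the hypotheses
of `LacedEnd.false_of_orth`.
-/

set_option autoImplicit false
set_option linter.unusedSectionVars false

namespace Cfsg.Agent.KFacts.OddLift.ChevSys

open Cfsg.Lie Cfsg.Agent.ChevalleyStructure.CoxeterGeom Cfsg.Agent.Tits.Roots Cfsg.Agent.Tits.Core
  Cfsg.Agent.Nodes.Comb Cfsg.Agent.Nodes.BNOf Cfsg.Agent.Nodes.RGDChev Cfsg.Agent.Nodes.NormalForm
  Cfsg.Agent.KFacts.En.Roots Cfsg.Agent.KFacts.En.Rel Cfsg.Agent.KFacts.Mult.Laced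
  Cfsg.Agent.KFacts.Mult.LacedEnd Cfsg.Agent.OddHalf.SL
open scoped commutatorElement

universe u

variable {D : ChevalleyDatum} {l : ℕ} {M : CoxeterMatrix (Fin l)} (h : Ty D l M) (F : Type u) [Field F]

/-- the root elements -/
noncomputable def xs (r : Fin l → ℤ) (a : F) : ↥(D.group F) := ⟨xe h r a, xe_mem_group h r a⟩

/-- the root groups -/
def X (D : ChevalleyDatum) (l : ℕ) (F : Type u) [Field F] (r : Fin l → ℤ) : Subgroup ↥(D.group F) :=
  (XV D l F r).subgroupOf (D.group F)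

include h

theorem phi_eq : Phi D l = {x | IsRoot M.toCoxeterSystem h.ty.isCartan x} := by
  ext x
  exact (isRoot_iff h.ty M.toCoxeterSystem x).symm

theorem isRG : IsRG (Phi D l) (xs h F) (X D l F) := by
  intro r hr g
  rw [X, Subgroup.mem_subgroupOf, mem_XV h hr]
  constructor
  · rintro ⟨t, ht⟩
    exact ⟨t, Subtype.ext ht⟩
  · rintro ⟨t, rfl⟩
    exact ⟨t, rfl⟩

theorem inj {r : Fin l → ℤ} (hr : r ∈ Phi D l) {a : F} (ha : xs h F r a = 1) : a = 0 :=
  (xe_eq_one_iff h hr a).1 (congrArg Subtype.val ha)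

theorem three : Three (bf D l) (Phi D l) := by
  intro r hr s hs h1
  obtain ⟨c, hc, h2, h3⟩ := tri h hr hs h1
  exact ⟨c, hc, by rw [bf_symm h]; exact h2, by rw [bf_symm h]; exact h3⟩

theorem xs_sq [CharP F 2] (r : Fin l → ℤ) (a : F) : xs h F r a * xs h F r a = 1 :=
  Subtype.ext (xe_sq h r a)

theorem sys [CharP F 2] : Sys (bf D l) (Phi D l) (xs h F) where
  roots := roots h
  add r _ a b := Subtype.ext (xe_add h r a b).symm
  comm r hr s hs h0 a b := Subtype.ext (comm_xe h hr hs h0 a b)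
  one r hr s hs h0 a b := Subtype.ext (commute_xe h hr hs h0 a b)

variable [Finite F] [CharP F 2]

theorem dir (h4 : ∀ i j, M i j ≠ 4) (h6 : ∀ i j, M i j ≠ 6) : Dir Index.hth (Phi D l) (X D l F) := by
  have := finite_W h.ty M.toCoxeterSystem
  have : Fact (Nat.Prime 2) := ⟨Nat.prime_two⟩
  intro a ha h0
  rw [phi_eq h] at ha ⊢
  exact OfRGD.dir h4 h6 (rgd (K := F) h.ty M.toCoxeterSystem 2) a ha h0

theorem odd : ¬ 2 ∣ (Bridge.pos Index.hth (Phi D l) (X D l F)).index := by
  have := finite_W h.ty M.toCoxeterSystem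
  have : Fact (Nat.Prime 2) := ⟨Nat.prime_two⟩
  have R := rgd (K := F) h.ty M.toCoxeterSystem 2
  have e : Bridge.pos Index.hth (Phi D l) (X D l F) =
      RGD.Sup (X D l F) (RGD.Pos M.toCoxeterSystem h.ty.isCartan) := by
    rw [phi_eq h]
    exact OfRGD.pos_eq
  rw [e]
  obtain ⟨P, hP⟩ := R.isPGroup_Upos.exists_le_sylow
  have h3 := eq_U_of_isPGroup R P.isPGroup' hP (by
    rw [Cfsg.Agent.KFacts.Mult.RGDW.GG_eq_top_of_G1 (G1_eq_top h.ty M.toCoxeterSystem)]
    exact le_top)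
  show ¬ 2 ∣ (RGD.Sup (fun x => (XV D l F x).subgroupOf (D.group F))
    (RGD.Pos M.toCoxeterSystem h.ty.isCartan)).index
  rw [← h3]
  exact P.not_dvd_index

end Cfsg.Agent.KFacts.OddLift.ChevSys

end

-- merged: Cfsg.Agent.KFacts.OddLift.OEight
section

/-!
# The 2-part of the multiplier of `Ω₈⁺(2)`: elementary abelian of order at most 4

`X = chevD4.group F`, `|F| = 2`. Let `f : K → X` be surjective with central kernel (a 2-group), `K` finite and perfect.
`kp h r s : K` is the commutator of lifts of the root elements of the orthogonal roots `r`, `s`. It depends only on the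
orbit of `(r, s)` under the Weyl group (three orbits), and the product of the three values is 1 (`three_term`).
The kernel of `f` is generated by the `kp h r s` (`ker_eq`).

* `sq_eq_one`, `card_ker_le`: `ker f` has exponent 2 and order at most 4;
* `card_le_two`: if `ker f` is cyclic then its order is at most 2.
-/

set_option autoImplicit false
set_option linter.style.haveILetI false
set_option linter.unusedSectionVars false
set_option Elab.async false

namespace Cfsg.Agent.KFacts.OddLift.OEight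

open Subgroup Cfsg Cfsg.Lie Cfsg.Agent.ChevalleyStructure.CoxeterGeom Cfsg.Agent.ChevalleyStructure.RootVec
  Cfsg.Agent.Tits.Roots Cfsg.Agent.Tits.Core
  Cfsg.Agent.Nodes.RGDChev Cfsg.Agent.KFacts.En.Roots Cfsg.Agent.KFacts.En.Rel Cfsg.Agent.KFacts.Mult.Calc
  Cfsg.Agent.KFacts.Mult.Laced Cfsg.Agent.KFacts.Mult.LacedEnd Cfsg.Agent.KFacts.MulDef Cfsg.Agent.KFacts.OddLift.ChevSys
open scoped commutatorElement

universe u v

/-! ### The table -/

/-- the reflections on the roots -/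
def tab : List (List ℕ) := [[0, 1, 0, 0], [6, 0, 3, 2], [7, 2, 4, 1], [8, 3, 1, 4], [9, 5, 2, 3], [18, 4, 5, 5],
  [1, 6, 8, 7], [2, 10, 9, 6], [3, 11, 6, 9], [4, 14, 7, 8], [10, 7, 13, 10], [11, 8, 11, 12], [12, 15, 12, 11],
  [13, 16, 10, 13], [19, 9, 16, 15], [20, 12, 17, 14], [21, 13, 14, 17], [22, 17, 15, 16], [5, 19, 18, 18],
  [14, 18, 21, 20], [15, 20, 22, 19], [16, 21, 19, 22], [17, 23, 20, 21], [23, 22, 23, 23]]

def rr (i r : ℕ) : ℕ := (tab.getD r []).getD i 0

theorem rr_eq : ∀ i < 4, ∀ r < 24, chevD4.reflectRoot i r = rr i r := by decide +kernel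

/-- the distance of a pair from the three representatives -/
def dep (p : ℕ) : ℕ := (223044020488464102400894408997361186989808555402297348224475764423066339496397879530234758774755098714241508594934457034883125001770735747651403655355078531251209140647601351996878487954259887862222806561716906089213325059302472943090926752686508884429042594575901969712222576093476283288493493172780342563567041190848052377801831810925907155822009742732518035589836953813919116442798580153755911028513844770095979526393068922358373192239119359922708743012081715552724695695039202250105498120674788222537495096230530876334938795906741709985399443862949097471919551646100368328835863854907004566411350179505996798317415168597525904598566497161762054416442237186348060928341800748873416704 / 16 ^ p) % 16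

/-- the roots as vectors -/
def tv : List (List ℤ) := [[-1, -2, -1, -1], [-1, -1, -1, -1], [-1, -1, -1, 0], [-1, -1, 0, -1], [-1, -1, 0, 0],
  [-1, 0, 0, 0], [0, -1, -1, -1], [0, -1, -1, 0], [0, -1, 0, -1], [0, -1, 0, 0], [0, 0, -1, 0], [0, 0, 0, -1],
  [0, 0, 0, 1], [0, 0, 1, 0], [0, 1, 0, 0], [0, 1, 0, 1], [0, 1, 1, 0], [0, 1, 1, 1], [1, 0, 0, 0], [1, 1, 0, 0],
  [1, 1, 0, 1], [1, 1, 1, 0], [1, 1, 1, 1], [1, 2, 1, 1]]

def tc (r i : ℕ) : ℤ := (tv.getD r []).getD i 0

theorem tc_eq : ∀ r < 24, ∀ i < 4, rt chevD4 r i = tc r i := by decide +kernel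

/-- the form in coordinates -/
def tb (r s : ℕ) : ℤ :=
  2 * (tc r 0 * tc s 0 + tc r 1 * tc s 1 + tc r 2 * tc s 2 + tc r 3 * tc s 3)
    - tc r 1 * (tc s 0 + tc s 2 + tc s 3) - tc s 1 * (tc r 0 + tc r 2 + tc r 3)

theorem cartan_eq : ∀ i < 4, ∀ r < 24, chevD4.cartan i r =
    2 * tc r i - (if i = 1 then tc r 0 + tc r 2 + tc r 3 else tc r 1) := by decide +kernel

/-- every orthogonal pair is a representative or has a neighbour nearer to the representatives -/
def reachB (r s : ℕ) : Bool :=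
  (r == 22 && s == 16) || (r == 17 && s == 20) || (r == 22 && s == 19) ||
    (List.range 4).any fun i => decide (rr i r < 24) && decide (rr i s < 24) &&
      decide (tb (rr i r) (rr i s) = 0) && decide (dep (24 * rr i r + rr i s) < dep (24 * r + s))

theorem reach : ∀ r < 24, ∀ s < 24, tb r s = 0 → reachB r s = true := by decide +kernel

section Form

theorem vec4 (r : ℕ) (hr : r < 24) (i : Fin 4) : vec chevD4 4 r i = tc r i := by
  rw [vec_apply]
  exact tc_eq r hr i i.2

theorem bf_eq {r s : ℕ} (hr : r < 24) (hs : s < 24) : bf chevD4 4 (vec chevD4 4 r) (vec chevD4 4 s) = tb r s := by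
  rw [bf_vec ty_D4.ty hs]
  have e : chevD4.rank = 4 := ty_D4.ty.rank_eq
  rw [e, Finset.sum_range_succ, Finset.sum_range_succ, Finset.sum_range_succ, Finset.sum_range_succ,
    Finset.sum_range_zero, tc_eq r hr 0 (by norm_num), tc_eq r hr 1 (by norm_num), tc_eq r hr 2 (by norm_num),
    tc_eq r hr 3 (by norm_num), cartan_eq 0 (by norm_num) s hs, cartan_eq 1 (by norm_num) s hs,
    cartan_eq 2 (by norm_num) s hs, cartan_eq 3 (by norm_num) s hs]
  simp only [tb]
  norm_num
  ring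

end Form

variable {F : Type v} [Field F] [Finite F] [CharP F 2]

/-- The group. -/
abbrev X (F : Type v) [Field F] : Type v := ↥(chevD4.group F)

/-- root elements -/
noncomputable abbrev x (r : Fin 4 → ℤ) (a : F) : X F := xs ty_D4 F r a

section Gen

variable {K : Type u} [Group K] {f : K →* X F} (h : CE f)

/-- the commutator of lifts of `x r 1` and `x s 1` -/
noncomputable def kp (h : CE f) (r s : Fin 4 → ℤ) : K := h.lc (x r 1) (x s 1)

include h

theorem kp_mem {r s : Fin 4 → ℤ} (hr : r ∈ Phi chevD4 4) (hs : s ∈ Phi chevD4 4) (h0 : bf chevD4 4 r s = 0) :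
    kp h r s ∈ f.ker :=
  h.mem_center_iff_map.2 ((sys ty_D4 F).one r hr s hs h0.ge 1 1)

theorem kp_sq {r s : Fin 4 → ℤ} (hr : r ∈ Phi chevD4 4) (hs : s ∈ Phi chevD4 4) (h0 : bf chevD4 4 r s = 0) :
    kp h r s * kp h r s = 1 := by
  unfold kp
  rw [← h.lc_mul_left ((sys ty_D4 F).one r hr s hs h0.ge 1 1), xs_sq, h.lc_one_left]

/-- the Weyl group -/
theorem kp_rf {r s : Fin 4 → ℤ} (hr : r ∈ Phi chevD4 4) (hs : s ∈ Phi chevD4 4) (h0 : bf chevD4 4 r s = 0)
    (i : Fin 4) : kp h (rf chevD4 4 i r) (rf chevD4 4 i s) = kp h r s := by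
  obtain ⟨n, hn⟩ := h.surj ⟨nn ty_D4.ty F i, nn_mem_group ty_D4.ty i⟩
  have e := h.conj_lc n (x r 1) (x s 1)
  have h1 : ∀ y ∈ Phi chevD4 4, f n * x y 1 * (f n)⁻¹ = (x (rf chevD4 4 i y) 1 : X F) := by
    intro y hy
    rw [hn]
    exact Subtype.ext (xe_conj ty_D4 i hy 1)
  rw [h1 r hr, h1 s hs] at e
  have h2 := mem_center_iff.1 (h.cen (kp_mem h hr hs h0)) n
  unfold kp at h2 ⊢
  rw [← e, h2, mul_inv_cancel_right]

/-- every value is one of three -/
theorem kp_cases {r s : ℕ} (hr : r < 24) (hs : s < 24) (h0 : tb r s = 0) :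
    kp h (vec chevD4 4 r) (vec chevD4 4 s) = kp h (vec chevD4 4 22) (vec chevD4 4 16) ∨
    kp h (vec chevD4 4 r) (vec chevD4 4 s) = kp h (vec chevD4 4 17) (vec chevD4 4 20) ∨
    kp h (vec chevD4 4 r) (vec chevD4 4 s) = kp h (vec chevD4 4 22) (vec chevD4 4 19) := by
  induction hn : dep (24 * r + s) using Nat.strong_induction_on generalizing r s with
  | _ n ih =>
    subst hn
    have h1 := reach r hr s hs h0
    simp only [reachB, Bool.or_eq_true, Bool.and_eq_true, beq_iff_eq, List.any_eq_true, List.mem_range,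
      decide_eq_true_eq] at h1
    rcases h1 with ((⟨rfl, rfl⟩ | ⟨rfl, rfl⟩) | ⟨rfl, rfl⟩) | ⟨i, hi, ⟨⟨h2, h3⟩, h4⟩, h5⟩
    · exact Or.inl rfl
    · exact Or.inr (Or.inl rfl)
    · exact Or.inr (Or.inr rfl)
    · have e := ih _ h5 h2 h3 h4 rfl
      have hr' : r < chevD4.nroots := hr
      have hs' : s < chevD4.nroots := hs
      have e1 := kp_rf h (vec_mem (l := 4) hr') (vec_mem (l := 4) hs') (by rw [bf_eq hr hs]; exact h0) ⟨i, hi⟩
      rw [rf_vec ty_D4.ty ⟨i, hi⟩ hr', rf_vec ty_D4.ty ⟨i, hi⟩ hs'] at e1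
      change kp h (vec chevD4 4 (chevD4.reflectRoot i r)) (vec chevD4 4 (chevD4.reflectRoot i s)) = _ at e1
      rw [rr_eq i hi r hr, rr_eq i hi s hs] at e1
      rw [← e1]
      exact e

omit h in
theorem vadd {r s t : ℕ} (hr : r < 24) (hs : s < 24) (ht : t < 24)
    (e : ∀ i < 4, tc r i + tc s i = tc t i) : vec chevD4 4 r + vec chevD4 4 s = vec chevD4 4 t := by
  funext i
  rw [Pi.add_apply, vec4 r hr, vec4 s hs, vec4 t ht]
  exact e i i.2

/-- Hall-Witt -/
theorem move {s d u sd ud : ℕ} (hs : s < 24) (hd : d < 24) (hu : u < 24) (hsd : sd < 24) (hud : ud < 24)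
    (e1 : ∀ i < 4, tc s i + tc d i = tc sd i) (e2 : ∀ i < 4, tc u i + tc d i = tc ud i)
    (h1 : tb s d = -1) (h2 : tb u d = -1) (h3 : 0 ≤ tb u s) :
    kp h (vec chevD4 4 u) (vec chevD4 4 sd) =
      kp h (vec chevD4 4 s) (vec chevD4 4 ud) * kp h (vec chevD4 4 ud) (vec chevD4 4 sd) := by
  have m : ∀ {r : ℕ}, r < 24 → vec chevD4 4 r ∈ Phi chevD4 4 := fun hr => vec_mem hr
  have e := (sys ty_D4 F).lc_move h (m hs) (m hd) (m hu) (by rw [bf_eq hs hd]; exact h1)
    (by rw [bf_eq hu hd]; exact h2) (by rw [bf_eq hu hs]; exact h3) 1 1 1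
  rw [mul_one, vadd hs hd hsd e1, vadd hu hd hud e2] at e
  exact e

/-- **The three term relation.** -/
theorem three_term : kp h (vec chevD4 4 17) (vec chevD4 4 20) * kp h (vec chevD4 4 22) (vec chevD4 4 16) =
    kp h (vec chevD4 4 22) (vec chevD4 4 19) := by
  have e1 := move h (s := 14) (d := 18) (u := 17) (sd := 19) (ud := 22) (by norm_num) (by norm_num) (by norm_num)
    (by norm_num) (by norm_num) (by decide) (by decide) (by decide) (by decide) (by decide)
  have e2 := move h (s := 14) (d := 13) (u := 20) (sd := 16) (ud := 22) (by norm_num) (by norm_num) (by norm_num)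
    (by norm_num) (by norm_num) (by decide) (by decide) (by decide) (by decide) (by decide)
  have e3 := move h (s := 19) (d := 12) (u := 16) (sd := 20) (ud := 17) (by norm_num) (by norm_num) (by norm_num)
    (by norm_num) (by norm_num) (by decide) (by decide) (by decide) (by decide) (by decide)
  have m : ∀ {r : ℕ}, r < 24 → vec chevD4 4 r ∈ Phi chevD4 4 := fun hr => vec_mem hr
  have hb : bf chevD4 4 (vec chevD4 4 17) (vec chevD4 4 20) = 0 := by
    rw [bf_eq (by norm_num) (by norm_num)]; decide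
  have kb := kp_sq h (m (by norm_num)) (m (by norm_num)) hb
  have cb := mem_center_iff.1 (h.cen (kp_mem h (m (by norm_num)) (m (by norm_num)) hb))
  set κa := kp h (vec chevD4 4 22) (vec chevD4 4 16) with hκa
  set κb := kp h (vec chevD4 4 17) (vec chevD4 4 20) with hκb
  set κc := kp h (vec chevD4 4 22) (vec chevD4 4 19) with hκc
  have s1 : kp h (vec chevD4 4 20) (vec chevD4 4 16) = (kp h (vec chevD4 4 16) (vec chevD4 4 20))⁻¹ := h.lc_swap _ _
  have s2 : kp h (vec chevD4 4 17) (vec chevD4 4 19) = (kp h (vec chevD4 4 19) (vec chevD4 4 17))⁻¹ := h.lc_swap _ _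
  set A := kp h (vec chevD4 4 14) (vec chevD4 4 22)
  have kbi : κb⁻¹ = κb := inv_eq_of_mul_eq_one_left kb
  have e4 : A * κa = A * (κb * κc) := by
    rw [← e2, s1, e3, mul_inv_rev, kbi, ← s2, e1, ← mul_assoc, ← mul_assoc, cb A]
  have e5 : κa = κb * κc := mul_left_cancel e4
  rw [e5, ← mul_assoc, kb, one_mul]

end Gen

/-! ### The kernel -/

section Main

variable [hF2 : Fact (Nat.card F = 2)]

theorem eq_zero_or_one (a : F) : a = 0 ∨ a = 1 := by
  have h2 : Nat.card F = 2 := hF2.out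
  by_contra hcon
  push Not at hcon
  classical
  have : Fintype F := Fintype.ofFinite F
  rw [Nat.card_eq_fintype_card] at h2
  have h3 : ({0, 1, a} : Finset F).card ≤ 2 := by
    rw [← h2]; exact Finset.card_le_univ _
  rw [Finset.card_insert_of_notMem, Finset.card_insert_of_notMem, Finset.card_singleton] at h3
  · omega
  · rw [Finset.mem_singleton]; exact fun h => hcon.2 h.symm
  · rw [Finset.mem_insert, Finset.mem_singleton, not_or]
    exact ⟨zero_ne_one, fun h => hcon.1 h.symm⟩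

/-- the values -/
def vals {K : Type u} [Group K] {f : K →* X F} (h : CE f) : Set K :=
  {g | ∃ r ∈ Phi chevD4 4, ∃ s ∈ Phi chevD4 4, bf chevD4 4 r s = 0 ∧ g = kp h r s}

theorem no4 : ∀ i j, coxeterD4 i j ≠ 4 := by
  intro i j
  fin_cases i <;> fin_cases j <;> decide

theorem no6 : ∀ i j, coxeterD4 i j ≠ 6 := by
  intro i j
  fin_cases i <;> fin_cases j <;> decide

/-- **The kernel is generated by the commutators of lifts of orthogonal root elements.** -/
theorem ker_eq {K : Type u} [Group K] [Finite K] (hK : commutator K = ⊤) {f : K →* X F}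
    (hf : Function.Surjective f) (hZ : f.ker ≤ center K) (h2 : IsPGroup 2 f.ker) :
    f.ker = closure (vals (⟨hf, hZ⟩ : CE f)) := by
  set h : CE f := ⟨hf, hZ⟩
  refine Frat.ker_eq hK hf hZ h2 ((closure_le _).2 ?_) ?_
  · rintro _ ⟨r, hr, s, hs, h0, rfl⟩
    exact kp_mem h hr hs h0
  · intro L _ _ q π c hq hπ hN hd
    have h' : CE π := CE.of_ker hd.surj hd.cen fun y hy => (hd.ker y).1 hy
    have hq' : ∀ y, π (q y) = f y := fun y => by rw [← hπ]; rfl
    have two : (2 : F) = 0 := CharTwo.two_eq_zero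
    refine false_of_orth (sys ty_D4 F) two (three ty_D4) ?_ OddHalf.SL.Index.hth (isRG ty_D4 F)
      (fun r hr _ a ha => inj ty_D4 F hr ha) (dir ty_D4 F no4 no6) (odd ty_D4 F) hd h' ?_
    · -- a root at `60°`
      intro r hr
      obtain ⟨n, hn, rfl⟩ := hr
      have hn' : n < 24 := hn
      have key : ∀ r < 24, ∃ s < 24, tb s r = 1 := by
        have h1 : ∀ r < 24, ((List.range 24).any fun s => decide (tb s r = 1)) = true := by decide +kernel
        intro r hr
        have h2 := h1 r hr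
        rw [List.any_eq_true] at h2
        obtain ⟨s, hs, h3⟩ := h2
        exact ⟨s, List.mem_range.1 hs, of_decide_eq_true h3⟩
      obtain ⟨s, hs, h1⟩ := key n hn'
      exact ⟨vec chevD4 4 s, vec_mem hs, by rw [bf_eq hs hn']; exact h1⟩
    · intro r hr s hs h0 a b
      have hx0 : ∀ r ∈ Phi chevD4 4, xs ty_D4 F r 0 = 1 := fun r hr => (sys ty_D4 F).zero hr
      rcases eq_zero_or_one a with rfl | rfl
      · rw [hx0 r hr, h'.lc_one_left]
      · rcases eq_zero_or_one b with rfl | rfl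
        · rw [hx0 s hs, h'.lc_one_right]
        · have h3 : q (kp h r s) = 1 := hN (subset_closure ⟨r, hr, s, hs, h0, rfl⟩)
          have h4 : q (kp h r s) = h'.lc (xs ty_D4 F r 1) (xs ty_D4 F s 1) := by
            unfold kp CE.lc
            rw [map_commutatorElement]
            refine h'.comm_eq' ?_ ?_
            · rw [hq', h.map_lift]
            · rw [hq', h.map_lift]
          rw [← h4, h3]

theorem main {K : Type u} [Group K] [Finite K] (hK : commutator K = ⊤) {f : K →* X F}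
    (hf : Function.Surjective f) (hZ : f.ker ≤ center K) (h2 : IsPGroup 2 f.ker) :
    (∀ g ∈ f.ker, g * g = 1) ∧ Nat.card f.ker ≤ 4 := by
  have e := ker_eq hK hf hZ h2
  set h : CE f := ⟨hf, hZ⟩
  have m : ∀ {r : ℕ}, r < 24 → vec chevD4 4 r ∈ Phi chevD4 4 := fun hr => vec_mem hr
  have ha : bf chevD4 4 (vec chevD4 4 22) (vec chevD4 4 16) = 0 := by
    rw [bf_eq (by norm_num) (by norm_num)]; decide
  have hb : bf chevD4 4 (vec chevD4 4 17) (vec chevD4 4 20) = 0 := by
    rw [bf_eq (by norm_num) (by norm_num)]; decide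
  have h3 := three_term h
  have cb := mem_center_iff.1 (h.cen (kp_mem h (m (by norm_num)) (m (by norm_num)) hb))
  have key := Frat.card_le_four_of_gen (kp_sq h (m (by norm_num)) (m (by norm_num)) hb)
    (kp_sq h (m (by norm_num)) (m (by norm_num)) ha) h3 ((cb _).trans h3) (S := vals h) (by
      rintro _ ⟨_, ⟨r, hr, rfl⟩, _, ⟨s, hs, rfl⟩, h0, rfl⟩
      have hr' : r < 24 := hr
      have hs' : s < 24 := hs
      rw [bf_eq hr' hs'] at h0
      rcases kp_cases h hr' hs' h0 with h1 | h1 | h1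
      · exact Or.inr (Or.inr (Or.inl h1))
      · exact Or.inr (Or.inl h1)
      · exact Or.inr (Or.inr (Or.inr h1)))
  rw [e]
  exact key

/-- **The 2-part of the multiplier of `Ω₈⁺(2)`**: exponent 2, order at most 4. -/
theorem card_le {K : Type u} [Group K] [Finite K] (hK : commutator K = ⊤) (Z : Subgroup K) [Z.Normal]
    (hZ : Z ≤ center K) (h2 : IsPGroup 2 Z) {F : Type v} [Field F] [Fintype F] (hF : Fintype.card F = 2)
    (e : K ⧸ Z ≃* POmega F (quadFormPlus 4 F)) : (∀ z ∈ Z, z * z = 1) ∧ Nat.card Z ≤ 4 := by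
  have : CharP F 2 := by
    obtain ⟨p, hp⟩ := CharP.exists F
    have hpp : p.Prime := (CharP.char_is_prime_or_zero F p).resolve_right (CharP.char_ne_zero_of_finite F p)
    have h1 : p ∣ 2 := by rw [← hF]; exact CharP.cast_eq_zero_iff F p _ |>.1 (by simp)
    rcases (Nat.dvd_prime Nat.prime_two).1 h1 with h1 | h1
    · exact absurd h1 hpp.one_lt.ne'
    · rw [← h1]; exact hp
  have : Fact (Nat.card F = 2) := ⟨by rw [Nat.card_eq_fintype_card, hF]⟩
  obtain ⟨e'⟩ : Nonempty (↥(chevD4.group F) ≃* POmega F (quadFormPlus 4 F)) := S1082.result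
  let f : K →* X F := ((e.trans e'.symm).toMonoidHom).comp (QuotientGroup.mk' Z)
  have hker : f.ker = Z := by
    ext x
    rw [MonoidHom.mem_ker]
    show (e.trans e'.symm) (QuotientGroup.mk' Z x) = 1 ↔ _
    rw [map_eq_one_iff (e.trans e'.symm) (e.trans e'.symm).injective]
    exact QuotientGroup.eq_one_iff x
  have h := main (f := f) hK ((e.trans e'.symm).surjective.comp (QuotientGroup.mk'_surjective _))
    (by rw [hker]; exact hZ) (by rw [hker]; exact h2)
  rwa [hker] at h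

/-- The cyclic case. -/
theorem card_le_two {K : Type u} [Group K] [Finite K] (hK : commutator K = ⊤) (Z : Subgroup K) [Z.Normal]
    (hZ : Z ≤ center K) (h2 : IsPGroup 2 Z) [IsCyclic Z] {F : Type v} [Field F] [Fintype F]
    (hF : Fintype.card F = 2) (e : K ⧸ Z ≃* POmega F (quadFormPlus 4 F)) : Nat.card Z ≤ 2 :=
  Frat.card_le_two_of_cyclic fun z => Subtype.ext ((card_le hK Z hZ h2 hF e).1 z z.2)

end Main

end Cfsg.Agent.KFacts.OddLift.OEight

end
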